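import Groth.Agent.Lib.CohMop.StalkHomSpread
import Groth.Agent.Lib.IdealMul.Generic
import Groth.Agent.Lib.TensorMod.Invertible
import Groth.Agent.Lib.DPerf.Noeth

/-!
# Coherent modules with isomorphic stalks are isomorphic nearby
-/

set_option autoImplicit false
set_option linter.style.haveILetI false
set_option backward.isDefEq.respectTransparency false
set_option backward.isDefEq.respectTransparency.types false
universe u

open CategoryTheory CategoryTheory.Limits AlgebraicGeometry TopologicalSpace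

namespace Groth.Agent.Spread17

variable {X : Scheme.{u}}

/-- A morphism bijective on the stalks of the image of an open immersion restricts to an isomorphism. -/
theorem isIso_restrict_map {Y : Scheme.{u}} (f : Y ⟶ X) [IsOpenImmersion f] {M N : X.Modules} (φ : M ⟶ N)
    (h : ∀ y : Y, Function.Bijective (CohFound.stL φ (f y))) :
    IsIso ((Scheme.Modules.restrictFunctor f).map φ) := by
  rw [M1.isIso_iff_stalk]
  intro y
  let e := Scheme.Modules.restrictStalkNatIso f y
  have hb : IsIso ((Scheme.Modules.toPresheaf X ⋙ TopCat.Presheaf.stalkFunctor _ (f y)).map φ) := by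
    rw [ConcreteCategory.isIso_iff_bijective]
    exact h y
  haveI := (NatIso.isIso_map_iff e φ).2 hb
  exact ConcreteCategory.bijective_of_isIso
    ((Scheme.Modules.restrictFunctor f ⋙ Scheme.Modules.toPresheaf _ ⋙ TopCat.Presheaf.stalkFunctor _ y).map φ)

/-- Coherent modules with isomorphic stalks at `x` are isomorphic on a neighbourhood of `x`. -/
theorem exists_restrict_iso_of_stalkEquiv [IsLocallyNoetherian X] {G F : X.Modules} (hG : Coh.IsCoh G)
    (hF : Coh.IsCoh F) {x : X} (ψ : G.presheaf.stalk x ≃ₗ[X.presheaf.stalk x] F.presheaf.stalk x) :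
    ∃ U : X.Opens, x ∈ U ∧ Nonempty (G.restrict U.ι ≅ F.restrict U.ι) := by
  haveI : Coh.IsQCoh G := hG.1
  obtain ⟨W, hxW, g, hg⟩ := RH26.exists_homSh_of_stalk (M1.isFP_of_isCoh hG) x (ψ.toLinearMap : RefHull.StalkHom G F x)
  obtain ⟨φ, hφ⟩ := RH26.exists_restrictHom G F W g
  let z : (W : Scheme.{u}) := ⟨x, hxW⟩
  let e : ∀ (M : X.Modules), (M.restrict W.ι).presheaf.stalk z ≃+ M.presheaf.stalk x :=
    fun M => ((Scheme.Modules.restrictStalkNatIso W.ι z).app M).addCommGroupIsoToAddEquiv
  have hb : Function.Bijective (CohFound.stL φ z) := by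
    have he : ∀ v, e F (RefHull.stalkMapₗ φ z v) = ψ (e G v) := fun v =>
      (hφ z v).trans (congrArg (fun f : RefHull.StalkHom G F x => f (e G v)) hg)
    have h2 : Function.Bijective (fun v => RefHull.stalkMapₗ φ z v) := by
      have hf : (fun v => RefHull.stalkMapₗ φ z v) = (e F).symm ∘ ψ ∘ e G := funext fun v =>
        (e F).eq_symm_apply.2 (he v)
      rw [hf]
      exact (e F).symm.bijective.comp (ψ.bijective.comp (e G).bijective)
    exact h2
  haveI : IsLocallyNoetherian (W : Scheme.{u}) := isLocallyNoetherian_of_isOpenImmersion W.ι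
  obtain ⟨V, hzV, hV⟩ := IdealMulL.exists_open_bijective φ (DPerf.isCoh_restrict hG W.ι)
    (DPerf.isCoh_restrict hF W.ι) hb
  have hUW : W.ι ''ᵁ V ≤ W := by rintro _ ⟨y, -, rfl⟩; exact y.2
  let j := X.homOfLE hUW
  haveI := isIso_restrict_map j φ fun y => hV _ (by
    obtain ⟨v, hv, hvy⟩ := y.2
    have h1 : W.ι (j y) = y.1 := by rw [← Scheme.Hom.comp_apply, X.homOfLE_ι]; rfl
    rwa [W.ι.isOpenEmbedding.injective (h1.trans hvy.symm)])
  exact ⟨W.ι ''ᵁ V, ⟨z, hzV, rfl⟩, ⟨(M2.restrictLEIso G hUW).symm ≪≫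
    asIso ((Scheme.Modules.restrictFunctor j).map φ) ≪≫ M2.restrictLEIso F hUW⟩⟩

end Groth.Agent.Spread17
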